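import Cfsg.Agent.Lib.E6Cubic.Data
import Cfsg.Agent.Lib.Lie.TabE6

/-! Kernel checks of the tables of the 27-dimensional representation. -/

set_option autoImplicit false
set_option maxRecDepth 20000

namespace Cfsg.Agent.E6Cubic

open Cfsg.Agent.Chev

/-- The table of the datum. -/
abbrev tb : Tab := E6Data.tab

/-- A sparse integer matrix: source, target, coefficient. -/
abbrev Ent := ℕ × ℕ × ℤ

/-- Same source and target. -/
def entEq (x y : Ent) : Bool := Nat.beq x.1 y.1 && Nat.beq x.2.1 y.2.1

/-- Insert an entry. -/
def insEnt (x : Ent) : List Ent → List Ent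
  | [] => [x]
  | y :: l => bif entEq x y then
      (bif x.2.2 + y.2.2 == 0 then l else (x.1, x.2.1, x.2.2 + y.2.2) :: l) else y :: insEnt x l

/-- The product of two sparse matrices. -/
def comp (A B : List Ent) : List Ent :=
  B.flatMap fun m => (A.filter fun n => Nat.beq n.1 m.2.1).map fun n => (m.1, n.2.1, n.2.2 * m.2.2)

/-- A multiple. -/
def scal (c : ℤ) (A : List Ent) : List Ent := A.map fun m => (m.1, m.2.1, c * m.2.2)

/-- Moves stay inside, sources are no targets. -/
def checkShape : Bool :=
  allBelow (fun r => ((moves r).all fun m => Nat.blt m.1 27 && Nat.blt m.2.1 27) &&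
    (comp (moves r) (moves r)).isEmpty) 72

/-- The commutator relation of two roots. -/
def relOK (r s : ℕ) : Bool :=
  match tb.cTerms r s with
  | [] => ((comp (moves s) (moves r) ++ scal (-1) (comp (moves r) (moves s))).foldr insEnt []).isEmpty
  | [(k, c, 1, 1)] => Nat.blt k 72 &&
      ((comp (moves s) (moves r) ++ scal (-1) (comp (moves r) (moves s)) ++ scal c (moves k)).foldr
        insEnt []).isEmpty &&
      (comp (moves r) (moves k)).isEmpty && (comp (moves s) (moves k)).isEmpty
  | _ => false

/-- The commutator relations. -/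
def checkRel : Bool :=
  allBelow (fun r => allBelow (fun s => Nat.beq s r || Nat.beq s (tb.neg r) || relOK r s) 72) 72

/-- Compare and exchange. -/
def cswap (a b : ℕ) : ℕ × ℕ := bif Nat.ble a b then (a, b) else (b, a)

/-- A term of the expanded form: coefficient, degree, three positions. -/
abbrev Term := ℤ × ℕ × ℕ × ℕ × ℕ

/-- Put the positions of a term in increasing order. -/
def sort3 (e : Term) : Term :=
  let p := cswap e.2.2.1 e.2.2.2.1
  let q := cswap p.2 e.2.2.2.2
  let s := cswap p.1 q.1
  (e.1, e.2.1, s.1, s.2, q.2)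

/-- Same degree and positions. -/
def termEq (x y : Term) : Bool :=
  Nat.beq x.2.1 y.2.1 && Nat.beq x.2.2.1 y.2.2.1 && Nat.beq x.2.2.2.1 y.2.2.2.1 && Nat.beq x.2.2.2.2 y.2.2.2.2

/-- Insert a term. -/
def insTerm (x : Term) : List Term → List Term
  | [] => [x]
  | y :: l => bif termEq x y then
      (bif x.1 + y.1 == 0 then l else (x.1 + y.1, y.2) :: l) else y :: insTerm x l

/-- The image of a coordinate: coefficient, degree, position. -/
def factor (r a : ℕ) : List (ℤ × ℕ × ℕ) :=
  (1, 0, a) :: ((moves r).filter fun m => Nat.beq m.2.1 a).map fun m => (m.2.2, 1, m.1)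

/-- The form after a root element. -/
def expand (r : ℕ) : List Term :=
  mons.flatMap fun m => (factor r m.2.1).flatMap fun fa => (factor r m.2.2.1).flatMap fun fb =>
    (factor r m.2.2.2).map fun fc =>
      (m.1 * fa.1 * fb.1 * fc.1, fa.2.1 + fb.2.1 + fc.2.1, fa.2.2, fb.2.2, fc.2.2)

/-- The negative of the form. -/
def negBase : List Term := mons.map fun m => (-m.1, 0, m.2.1, m.2.2.1, m.2.2.2)

/-- The root elements fix the form. -/
def checkInv : Bool :=
  allBelow (fun r => (((expand r ++ negBase).map sort3).foldr insTerm []).isEmpty) 72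

theorem shape_ok : checkShape = true := by decide +kernel

theorem inv_ok : checkInv = true := by decide +kernel

theorem rel_ok : checkRel = true := by decide +kernel

end Cfsg.Agent.E6Cubic
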