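/-!
Tables for the 27-dimensional representation of type E6: the monomials of the cubic form, the moves of
the 72 root elements, and a straightening sequence of basis vectors.
-/

set_option autoImplicit false
set_option maxRecDepth 8000

namespace Cfsg.Agent.E6Cubic

/-- The monomials of the form: coefficient and three positions (position of `(k, i, j)` is `9k+3i+j`). -/
def mons : List (Int × Nat × Nat × Nat) :=
  [(1, 0, 4, 8),
   (-1, 0, 5, 7),
   (-1, 1, 3, 8),
   (1, 1, 5, 6),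
   (1, 2, 3, 7),
   (-1, 2, 4, 6),
   (1, 9, 13, 17),
   (-1, 9, 14, 16),
   (-1, 10, 12, 17),
   (1, 10, 14, 15),
   (1, 11, 12, 16),
   (-1, 11, 13, 15),
   (1, 18, 22, 26),
   (-1, 18, 23, 25),
   (-1, 19, 21, 26),
   (1, 19, 23, 24),
   (1, 20, 21, 25),
   (-1, 20, 22, 24),
   (-1, 0, 9, 18),
   (-1, 0, 10, 21),
   (-1, 0, 11, 24),
   (-1, 1, 12, 18),
   (-1, 1, 13, 21),
   (-1, 1, 14, 24),
   (-1, 2, 15, 18),
   (-1, 2, 16, 21),
   (-1, 2, 17, 24),
   (-1, 3, 9, 19),
   (-1, 3, 10, 22),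
   (-1, 3, 11, 25),
   (-1, 4, 12, 19),
   (-1, 4, 13, 22),
   (-1, 4, 14, 25),
   (-1, 5, 15, 19),
   (-1, 5, 16, 22),
   (-1, 5, 17, 25),
   (-1, 6, 9, 20),
   (-1, 6, 10, 23),
   (-1, 6, 11, 26),
   (-1, 7, 12, 20),
   (-1, 7, 13, 23),
   (-1, 7, 14, 26),
   (-1, 8, 15, 20),
   (-1, 8, 16, 23),
   (-1, 8, 17, 26)]

/-- The moves of a root element: source, target, sign. -/
def moves (r : Nat) : List (Nat × Nat × Int) :=
  bif Nat.blt r 72 then
    (bif Nat.blt r 36 then
    (bif Nat.blt r 18 then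
     (bif Nat.blt r 9 then
      (bif Nat.blt r 4 then
       (bif Nat.blt r 2 then
        (bif Nat.blt r 1 then
         [(4, 15, -1), (5, 12, 1), (10, 25, -1), (11, 22, 1), (18, 6, 1), (20, 0, -1)]
         else [(3, 12, 1), (4, 9, -1), (16, 25, 1), (17, 22, -1), (18, 8, -1), (20, 2, 1)])
        else (bif Nat.blt r 3 then
         [(10, 9, 1), (13, 12, 1), (16, 15, 1), (18, 21, -1), (19, 22, -1), (20, 23, -1)]
         else [(11, 9, 1), (14, 12, 1), (17, 15, 1), (18, 24, -1), (19, 25, -1), (20, 26, -1)]))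
       else (bif Nat.blt r 6 then
        (bif Nat.blt r 5 then
         [(3, 15, 1), (5, 9, -1), (13, 25, -1), (14, 22, 1), (18, 7, 1), (20, 1, -1)]
         else [(4, 23, -1), (7, 22, 1), (10, 2, 1), (16, 0, -1), (18, 14, 1), (24, 12, -1)])
        else (bif Nat.blt r 7 then
         [(4, 26, -1), (7, 25, 1), (11, 2, 1), (17, 0, -1), (18, 13, -1), (21, 12, 1)]
         else (bif Nat.blt r 8 then
          [(3, 0, -1), (4, 1, -1), (5, 2, -1), (18, 19, 1), (21, 22, 1), (24, 25, 1)]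
          else [(7, 15, 1), (8, 12, -1), (10, 26, 1), (11, 23, -1), (18, 3, 1), (19, 0, -1)]))))
      else (bif Nat.blt r 13 then
       (bif Nat.blt r 11 then
        (bif Nat.blt r 10 then
         [(5, 23, 1), (8, 22, -1), (10, 1, 1), (13, 0, -1), (18, 17, -1), (24, 15, 1)]
         else [(5, 26, 1), (8, 25, -1), (11, 1, 1), (14, 0, -1), (18, 16, 1), (21, 15, -1)])
        else (bif Nat.blt r 12 then
         [(6, 12, -1), (7, 9, 1), (16, 26, -1), (17, 23, 1), (18, 5, -1), (19, 2, 1)]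
         else [(3, 23, 1), (6, 22, -1), (13, 2, 1), (16, 1, -1), (18, 11, -1), (24, 9, 1)]))
       else (bif Nat.blt r 15 then
        (bif Nat.blt r 14 then
         [(3, 26, 1), (6, 25, -1), (14, 2, 1), (17, 1, -1), (18, 10, 1), (21, 9, -1)]
         else [(6, 15, -1), (8, 9, 1), (13, 26, 1), (14, 23, -1), (18, 4, 1), (19, 1, -1)])
        else (bif Nat.blt r 16 then
         [(6, 0, 1), (7, 1, 1), (8, 2, 1), (18, 20, -1), (21, 23, -1), (24, 26, -1)]
         else (bif Nat.blt r 17 then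
          [(1, 22, -1), (4, 21, 1), (10, 8, 1), (16, 6, -1), (20, 14, 1), (26, 12, -1)]
          else [(1, 25, -1), (4, 24, 1), (11, 8, 1), (17, 6, -1), (20, 13, -1), (23, 12, 1)])))))
     else (bif Nat.blt r 27 then
      (bif Nat.blt r 22 then
       (bif Nat.blt r 20 then
        (bif Nat.blt r 19 then
         [(3, 6, -1), (4, 7, -1), (5, 8, -1), (20, 19, 1), (23, 22, 1), (26, 25, 1)]
         else [(1, 15, -1), (2, 12, 1), (10, 24, -1), (11, 21, 1), (19, 6, -1), (20, 3, 1)])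
        else (bif Nat.blt r 21 then
         [(2, 22, 1), (5, 21, -1), (10, 7, 1), (13, 6, -1), (20, 17, -1), (26, 15, 1)]
         else [(2, 25, 1), (5, 24, -1), (11, 7, 1), (14, 6, -1), (20, 16, 1), (23, 15, -1)]))
       else (bif Nat.blt r 24 then
        (bif Nat.blt r 23 then
         [(1, 0, 1), (4, 3, 1), (7, 6, 1), (9, 12, -1), (10, 13, -1), (11, 14, -1)]
         else [(4, 17, -1), (5, 14, 1), (9, 22, -1), (10, 19, 1), (24, 6, 1), (26, 0, -1)])
        else (bif Nat.blt r 25 then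
         [(4, 16, 1), (5, 13, -1), (9, 25, -1), (11, 19, 1), (21, 6, -1), (23, 0, 1)]
         else (bif Nat.blt r 26 then
          [(2, 0, 1), (5, 3, 1), (8, 6, 1), (9, 15, -1), (10, 16, -1), (11, 17, -1)]
          else [(0, 12, 1), (1, 9, -1), (16, 24, 1), (17, 21, -1), (19, 8, 1), (20, 5, -1)]))))
      else (bif Nat.blt r 31 then
       (bif Nat.blt r 29 then
        (bif Nat.blt r 28 then
         [(0, 22, 1), (3, 21, -1), (13, 8, 1), (16, 7, -1), (20, 11, -1), (26, 9, 1)]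
         else [(0, 25, 1), (3, 24, -1), (14, 8, 1), (17, 7, -1), (20, 10, 1), (23, 9, -1)])
        else (bif Nat.blt r 30 then
         [(0, 15, 1), (2, 9, -1), (13, 24, -1), (14, 21, 1), (19, 7, -1), (20, 4, 1)]
         else [(1, 2, 1), (4, 5, 1), (7, 8, 1), (15, 12, -1), (16, 13, -1), (17, 14, -1)]))
       else (bif Nat.blt r 33 then
        (bif Nat.blt r 32 then
         [(3, 14, -1), (4, 11, 1), (15, 22, -1), (16, 19, 1), (24, 8, 1), (26, 2, -1)]
         else [(3, 13, 1), (4, 10, -1), (15, 25, -1), (17, 19, 1), (21, 8, -1), (23, 2, 1)])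
        else (bif Nat.blt r 34 then
         [(1, 23, 1), (7, 21, -1), (10, 5, 1), (16, 3, -1), (19, 14, 1), (25, 12, -1)]
         else (bif Nat.blt r 35 then
          [(10, 11, 1), (13, 14, 1), (16, 17, 1), (24, 21, -1), (25, 22, -1), (26, 23, -1)]
          else [(1, 26, -1), (7, 24, 1), (11, 5, -1), (17, 3, 1), (19, 13, 1), (22, 12, -1)]))))))
    else (bif Nat.blt r 54 then
     (bif Nat.blt r 45 then
      (bif Nat.blt r 40 then
       (bif Nat.blt r 38 then
        (bif Nat.blt r 37 then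
         [(3, 17, 1), (5, 11, -1), (12, 22, -1), (13, 19, 1), (24, 7, 1), (26, 1, -1)]
         else [(11, 10, 1), (14, 13, 1), (17, 16, 1), (21, 24, -1), (22, 25, -1), (23, 26, -1)])
        else (bif Nat.blt r 39 then
         [(3, 16, -1), (5, 10, 1), (12, 25, -1), (14, 19, 1), (21, 7, -1), (23, 1, 1)]
         else [(2, 23, 1), (8, 21, -1), (10, 4, -1), (13, 3, 1), (19, 17, 1), (25, 15, -1)]))
       else (bif Nat.blt r 42 then
        (bif Nat.blt r 41 then
         [(2, 26, -1), (8, 24, 1), (11, 4, 1), (14, 3, -1), (19, 16, 1), (22, 15, -1)]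
         else [(2, 1, 1), (5, 4, 1), (8, 7, 1), (12, 15, -1), (13, 16, -1), (14, 17, -1)])
        else (bif Nat.blt r 43 then
         [(4, 20, 1), (7, 19, -1), (9, 2, -1), (15, 0, 1), (21, 14, 1), (24, 13, -1)]
         else (bif Nat.blt r 44 then
          [(7, 17, -1), (8, 14, 1), (9, 23, -1), (10, 20, 1), (24, 3, -1), (25, 0, 1)]
          else [(7, 16, -1), (8, 13, 1), (9, 26, 1), (11, 20, -1), (21, 3, -1), (22, 0, 1)]))))
      else (bif Nat.blt r 49 then
       (bif Nat.blt r 47 then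
        (bif Nat.blt r 46 then
         [(5, 20, -1), (8, 19, 1), (9, 1, -1), (12, 0, 1), (21, 17, -1), (24, 16, 1)]
         else [(0, 2, 1), (3, 5, 1), (6, 8, 1), (15, 9, -1), (16, 10, -1), (17, 11, -1)])
        else (bif Nat.blt r 48 then
         [(0, 23, 1), (6, 21, -1), (13, 5, -1), (16, 4, 1), (19, 11, 1), (25, 9, -1)]
         else [(0, 26, -1), (6, 24, 1), (14, 5, 1), (17, 4, -1), (19, 10, 1), (22, 9, -1)]))
       else (bif Nat.blt r 51 then
        (bif Nat.blt r 50 then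
         [(0, 1, 1), (3, 4, 1), (6, 7, 1), (12, 9, -1), (13, 10, -1), (14, 11, -1)]
         else [(6, 14, -1), (7, 11, 1), (15, 23, -1), (16, 20, 1), (24, 5, -1), (25, 2, 1)])
        else (bif Nat.blt r 52 then
         [(6, 13, -1), (7, 10, 1), (15, 26, 1), (17, 20, -1), (21, 5, -1), (22, 2, 1)]
         else (bif Nat.blt r 53 then
          [(3, 20, 1), (6, 19, -1), (12, 2, 1), (15, 1, -1), (21, 11, 1), (24, 10, -1)]
          else [(6, 3, -1), (7, 4, -1), (8, 5, -1), (19, 20, 1), (22, 23, 1), (25, 26, 1)])))))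
     else (bif Nat.blt r 63 then
      (bif Nat.blt r 58 then
       (bif Nat.blt r 56 then
        (bif Nat.blt r 55 then
         [(6, 17, -1), (8, 11, 1), (12, 23, 1), (13, 20, -1), (24, 4, 1), (25, 1, -1)]
         else [(6, 16, -1), (8, 10, 1), (12, 26, -1), (14, 20, 1), (21, 4, 1), (22, 1, -1)])
        else (bif Nat.blt r 57 then
         [(0, 6, 1), (1, 7, 1), (2, 8, 1), (20, 18, -1), (23, 21, -1), (26, 24, -1)]
         else [(1, 19, -1), (4, 18, 1), (9, 8, 1), (15, 6, -1), (23, 14, -1), (26, 13, 1)]))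
       else (bif Nat.blt r 60 then
        (bif Nat.blt r 59 then
         [(1, 17, -1), (2, 14, 1), (9, 21, -1), (10, 18, 1), (25, 6, -1), (26, 3, 1)]
         else [(1, 16, -1), (2, 13, 1), (9, 24, 1), (11, 18, -1), (22, 6, -1), (23, 3, 1)])
        else (bif Nat.blt r 61 then
         [(2, 19, 1), (5, 18, -1), (9, 7, 1), (12, 6, -1), (23, 17, 1), (26, 16, -1)]
         else (bif Nat.blt r 62 then
          [(0, 14, -1), (1, 11, 1), (15, 21, -1), (16, 18, 1), (25, 8, -1), (26, 5, 1)]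
          else [(0, 13, -1), (1, 10, 1), (15, 24, 1), (17, 18, -1), (22, 8, -1), (23, 5, 1)]))))
      else (bif Nat.blt r 67 then
       (bif Nat.blt r 65 then
        (bif Nat.blt r 64 then
         [(0, 19, -1), (3, 18, 1), (12, 8, -1), (15, 7, 1), (23, 11, -1), (26, 10, 1)]
         else [(0, 3, -1), (1, 4, -1), (2, 5, -1), (19, 18, 1), (22, 21, 1), (25, 24, 1)])
        else (bif Nat.blt r 66 then
         [(0, 17, -1), (2, 11, 1), (12, 21, 1), (13, 18, -1), (25, 7, 1), (26, 4, -1)]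
         else [(0, 16, -1), (2, 10, 1), (12, 24, -1), (14, 18, 1), (22, 7, 1), (23, 4, -1)]))
       else (bif Nat.blt r 69 then
        (bif Nat.blt r 68 then
         [(1, 20, -1), (7, 18, 1), (9, 5, -1), (15, 3, 1), (22, 14, 1), (25, 13, -1)]
         else [(9, 11, 1), (12, 14, 1), (15, 17, 1), (24, 18, -1), (25, 19, -1), (26, 20, -1)])
        else (bif Nat.blt r 70 then
         [(9, 10, 1), (12, 13, 1), (15, 16, 1), (21, 18, -1), (22, 19, -1), (23, 20, -1)]
         else (bif Nat.blt r 71 then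
          [(2, 20, 1), (8, 18, -1), (9, 4, -1), (12, 3, 1), (22, 17, -1), (25, 16, 1)]
          else [(0, 20, -1), (6, 18, 1), (12, 5, 1), (15, 4, -1), (22, 11, 1), (25, 10, -1)])))))))
  else []

/-- One step of the straightening. -/
structure Step where
  n : Nat
  anchor : Option Nat
  paths : List (Nat × List (Nat × Nat))
  scale : Option (Nat × Nat × Nat)
  clear : List (Nat × Nat)

/-- The straightening sequence. -/
def steps : List Step :=
  [⟨0, none, [(1, [(22, 0)]), (2, [(25, 0)]), (3, [(7, 0)]), (4, [(7, 1), (22, 0)]), (5, [(7, 2), (25, 0)]), (6, [(15, 0)]), (7, [(15, 1), (22, 0)]), (8, [(15, 2), (25, 0)]), (9, [(45, 1), (22, 0)]), (10, [(9, 1), (22, 0)]), (11, [(10, 1), (22, 0)]), (12, [(45, 0)]), (13, [(9, 0)]), (14, [(10, 0)]), (15, [(42, 0)]), (16, [(5, 0)]), (17, [(6, 0)]), (18, [(8, 3), (7, 0)]), (19, [(8, 0)]), (20, [(0, 0)]), (21, [(44, 3), (7, 0)]), (22, [(44, 0)]), (23, [(24, 0)]), (24, [(43, 3), (7, 0)]), (25, [(43, 0)]),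 (26, [(23, 0)])], (some (49, 22, 1)), [(1, 49), (2, 46), (3, 64), (6, 56), (12, 26), (13, 62), (14, 61), (15, 29), (16, 66), (17, 65), (19, 63), (20, 71), (22, 27), (23, 47), (25, 28), (26, 48)]⟩,
   ⟨4, (some 0), [(5, [(41, 4)]), (7, [(53, 4)]), (8, [(53, 5), (41, 4)]), (9, [(70, 4)]), (10, [(39, 4)]), (11, [(40, 4)]), (18, [(14, 4)]), (21, [(55, 4)]), (24, [(54, 4)])], (some (30, 41, 5)), [(1, 7), (3, 22), (5, 30), (7, 18), (9, 1), (10, 32), (11, 31), (15, 0), (16, 24), (17, 23), (18, 57), (20, 42), (21, 16), (23, 5), (24, 17), (26, 6)]⟩,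
   ⟨8, none, [], none, [(2, 15), (5, 53), (6, 25), (7, 41), (9, 14), (10, 55), (11, 54), (12, 8), (13, 44), (14, 43), (18, 70), (19, 45), (21, 39), (22, 9), (24, 40), (25, 10)]⟩,
   ⟨1, none, [(3, [(4, 15), (52, 1)]), (15, [(52, 1)]), (16, [(12, 1)]), (17, [(13, 1)]), (20, [(4, 1)]), (23, [(38, 1)]), (26, [(36, 1)])], (some (19, 52, 15)), [(15, 19), (16, 59), (17, 58), (20, 67), (23, 33), (26, 35)]⟩,
   ⟨3, none, [], none, [(15, 4), (16, 38), (17, 36), (20, 52), (23, 12), (26, 13)]⟩,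
   ⟨2, none, [(19, [(11, 2)]), (22, [(51, 2)]), (25, [(50, 2)])], (some (60, 11, 19)), [(19, 60), (22, 20), (25, 21)]⟩,
   ⟨6, none, [], none, [(12, 11), (13, 51), (14, 50)]⟩,
   ⟨5, none, [], none, []⟩,
   ⟨7, none, [], none, []⟩,
   ⟨9, none, [(10, [(2, 9)]), (11, [(3, 9)])], (some (69, 2, 10)), [(10, 69), (11, 68)]⟩,
   ⟨18, none, [], none, [(21, 2), (24, 3)]⟩,
   ⟨12, none, [], none, []⟩,
   ⟨15, none, [], none, []⟩,
   ⟨19, none, [], none, []⟩,
   ⟨20, none, [], none, []⟩,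
   ⟨10, none, [(11, [(37, 10)])], (some (34, 37, 11)), [(11, 34)]⟩,
   ⟨14, none, [], none, [(13, 37)]⟩,
   ⟨16, none, [], none, []⟩,
   ⟨11, none, [], none, []⟩,
   ⟨13, none, [], none, []⟩,
   ⟨17, none, [], none, []⟩,
   ⟨21, none, [], none, []⟩,
   ⟨22, none, [], none, []⟩,
   ⟨23, none, [], none, []⟩,
   ⟨24, none, [], none, []⟩,
   ⟨25, none, [], none, []⟩,
   ⟨26, none, [], none, []⟩]

end Cfsg.Agent.E6Cubic
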