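import Cfsg.Agent.Lib.E6Cubic.Rep

/-! The trilinear and the mixed form of the cubic, and their invariance under isometries. -/

set_option autoImplicit false
set_option maxRecDepth 8000

namespace Cfsg.Agent.E6Cubic

open Cfsg.Lie Cfsg.Agent.Chev Matrix

variable {F : Type*} [Field F]

/-- The six orders of every monomial. -/
def perms : List (ℤ × ℕ × ℕ × ℕ) :=
  mons.flatMap fun m =>
    [(m.1, m.2.1, m.2.2.1, m.2.2.2), (m.1, m.2.1, m.2.2.2, m.2.2.1), (m.1, m.2.2.1, m.2.1, m.2.2.2),
     (m.1, m.2.2.1, m.2.2.2, m.2.1), (m.1, m.2.2.2, m.2.1, m.2.2.1), (m.1, m.2.2.2, m.2.2.1, m.2.1)]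

/-- Half of the orders: the first two positions increase. -/
def halves : List (ℤ × ℕ × ℕ × ℕ) := perms.filter fun p => Nat.blt p.2.1 p.2.2.1

/-- The trilinear form. -/
def Bf (x y z : I27 → F) : F :=
  (perms.map fun p => (p.1 : F) * x (dec p.2.1) * y (dec p.2.2.1) * z (dec p.2.2.2)).sum

/-- The form quadratic in the first and linear in the second variable. -/
def Lf (x y : I27 → F) : F :=
  (halves.map fun p => (p.1 : F) * x (dec p.2.1) * x (dec p.2.2.1) * y (dec p.2.2.2)).sum

theorem halves_sum (x y : I27 → F) :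
    Lf x y = (mons.map fun m => (m.1 : F) * (x (dec m.2.1) * x (dec m.2.2.1) * y (dec m.2.2.2) +
      x (dec m.2.1) * y (dec m.2.2.1) * x (dec m.2.2.2) +
      y (dec m.2.1) * x (dec m.2.2.1) * x (dec m.2.2.2))).sum := by
  have h : ∀ m ∈ mons, m.2.1 < m.2.2.1 ∧ m.2.2.1 ≠ m.2.2.2 ∧ m.2.1 ≠ m.2.2.2 := by decide +kernel
  simp only [Lf, halves, perms]
  generalize mons = L at h
  induction L with
  | nil => rfl
  | cons m L ih =>
    have ih := ih fun a ha => h a (List.mem_cons_of_mem _ ha)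
    obtain ⟨h1, h2, h3⟩ := h m List.mem_cons_self
    simp only [List.flatMap_cons, List.filter_append, List.map_append, List.sum_append, ih, List.map_cons,
      List.sum_cons]
    congr 1
    rcases lt_or_gt_of_ne h2 with h2 | h2 <;> rcases lt_or_gt_of_ne h3 with h3 | h3 <;>
      simp [List.filter_cons, h1, h2, h3, h1.asymm, h2.asymm, h3.asymm] <;>
      ring

theorem bf_sum (x y z : I27 → F) :
    Bf x y z = (mons.map fun m => (m.1 : F) *
      (x (dec m.2.1) * y (dec m.2.2.1) * z (dec m.2.2.2) + x (dec m.2.1) * y (dec m.2.2.2) * z (dec m.2.2.1) +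
       x (dec m.2.2.1) * y (dec m.2.1) * z (dec m.2.2.2) + x (dec m.2.2.1) * y (dec m.2.2.2) * z (dec m.2.1) +
       x (dec m.2.2.2) * y (dec m.2.1) * z (dec m.2.2.1) +
       x (dec m.2.2.2) * y (dec m.2.2.1) * z (dec m.2.1))).sum := by
  simp only [Bf, perms]
  induction mons with
  | nil => rfl
  | cons m L ih =>
    simp only [List.flatMap_cons, List.map_append, List.sum_append, ih, List.map_cons, List.sum_cons,
      List.map_nil, List.sum_nil]
    ring

theorem polar3 (x y z : I27 → F) :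
    cubicT (x + y + z) + cubicT x + cubicT y + cubicT z =
      Bf x y z + cubicT (x + y) + cubicT (x + z) + cubicT (y + z) := by
  simp only [cubicT_eq, Tz, bf_sum, Pi.add_apply]
  induction mons with
  | nil => simp
  | cons m L ih =>
    simp only [List.map_cons, List.sum_cons]
    linear_combination ih

theorem taylor (a : F) (x y : I27 → F) :
    cubicT (x + a • y) = cubicT x + a * Lf x y + a ^ 2 * Lf y x + a ^ 3 * cubicT y := by
  simp only [cubicT_eq, Tz, halves_sum, Pi.add_apply, Pi.smul_apply, smul_eq_mul]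
  induction mons with
  | nil => simp
  | cons m L ih =>
    simp only [List.map_cons, List.sum_cons]
    linear_combination ih

/-- Applying a matrix of the linear group. -/
def ap (g : GL I27 F) (x : I27 → F) : I27 → F := (g : Matrix I27 I27 F) *ᵥ x

theorem ap_mul (g h : GL I27 F) (x : I27 → F) : ap (g * h) x = ap g (ap h x) := by
  simp [ap, Matrix.mulVec_mulVec]

theorem ap_one (x : I27 → F) : ap (1 : GL I27 F) x = x := by simp [ap]

theorem ap_inv (g : GL I27 F) (x : I27 → F) : ap g (ap g⁻¹ x) = x := by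
  rw [← ap_mul, mul_inv_cancel, ap_one]

theorem inv_ap (g : GL I27 F) (x : I27 → F) : ap g⁻¹ (ap g x) = x := by
  rw [← ap_mul, inv_mul_cancel, ap_one]

theorem ap_add (g : GL I27 F) (x y : I27 → F) : ap g (x + y) = ap g x + ap g y := Matrix.mulVec_add _ _ _

theorem ap_smul (g : GL I27 F) (a : F) (x : I27 → F) : ap g (a • x) = a • ap g x := Matrix.mulVec_smul _ _ _

theorem cubicT_ap {g : GL I27 F} (hg : g ∈ E6univ F) (x : I27 → F) : cubicT (ap g x) = cubicT x := hg x

theorem Bf_ap {g : GL I27 F} (hg : g ∈ E6univ F) (x y z : I27 → F) :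
    Bf (ap g x) (ap g y) (ap g z) = Bf x y z := by
  have h := polar3 (ap g x) (ap g y) (ap g z)
  simp only [← ap_add, cubicT_ap hg] at h
  linear_combination polar3 x y z - h

theorem Lf_ap {a : F} (ha0 : a ≠ 0) (ha1 : a ≠ 1) {g : GL I27 F} (hg : g ∈ E6univ F) (x y : I27 → F) :
    Lf (ap g x) (ap g y) = Lf x y := by
  have h1 := taylor 1 (ap g x) (ap g y)
  have h2 := taylor a (ap g x) (ap g y)
  simp only [← ap_smul, ← ap_add, cubicT_ap hg, taylor] at h1 h2
  have : (a * (a - 1)) * (Lf (ap g x) (ap g y) - Lf x y) = 0 := by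
    linear_combination h2 - a ^ 2 * h1
  rcases mul_eq_zero.1 this with h | h
  · rcases mul_eq_zero.1 h with h | h
    · exact absurd h ha0
    · exact absurd (sub_eq_zero.1 h) ha1
  · exact sub_eq_zero.1 h

/-- A basis vector. -/
def bas (a : ℕ) : I27 → F := Pi.single (dec a) 1

theorem bas_dec {a b : ℕ} (ha : a < 27) (hb : b < 27) : (bas a : I27 → F) (dec b) = if b = a then 1 else 0 := by
  simp only [bas, Pi.single_apply, dec_inj hb ha]

theorem perms_lt : ∀ p ∈ perms, p.2.1 < 27 ∧ p.2.2.1 < 27 ∧ p.2.2.2 < 27 := by decide +kernel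

theorem sum_filter_eq {α : Type*} (L : List α) (f : α → F) (P : α → Bool) (h : ∀ p ∈ L, P p = false → f p = 0) :
    (L.map f).sum = ((L.filter P).map f).sum := by
  induction L with
  | nil => rfl
  | cons a L ih =>
    have ih := ih fun p hp => h p (List.mem_cons_of_mem _ hp)
    cases hP : P a with
    | true => simp [List.filter_cons, hP, ih]
    | false => simp [List.filter_cons, hP, ih, h a List.mem_cons_self hP]

/-- Each first and third position determine the entry. -/
theorem perms_unique : ∀ p ∈ perms,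
    (perms.filter fun q => Nat.beq q.2.1 p.2.1 && Nat.beq q.2.2.2 p.2.2.2) = [p] ∧ (p.1 = 1 ∨ p.1 = -1) := by
  decide +kernel

theorem sign_ne_zero {p : ℤ × ℕ × ℕ × ℕ} (hp : p ∈ perms) : (p.1 : F) ≠ 0 := by
  rcases (perms_unique p hp).2 with h | h <;> simp [h]

/-- A coordinate read off by the trilinear form. -/
theorem Bf_read {p : ℤ × ℕ × ℕ × ℕ} (hp : p ∈ perms) (x : I27 → F) :
    Bf (bas p.2.1) x (bas p.2.2.2) = (p.1 : F) * x (dec p.2.2.1) := by
  obtain ⟨h1, -, h3⟩ := perms_lt p hp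
  rw [Bf, sum_filter_eq _ _ (fun q => Nat.beq q.2.1 p.2.1 && Nat.beq q.2.2.2 p.2.2.2), (perms_unique p hp).1]
  · simp [bas_dec h1 h1, bas_dec h3 h3]
  · intro q hq hf
    obtain ⟨q1, -, q3⟩ := perms_lt q hq
    have hf : ¬ (q.2.1 = p.2.1 ∧ q.2.2.2 = p.2.2.2) := fun h => by simp [h.1, h.2] at hf
    rcases not_and_or.1 hf with hf | hf
    · simp [bas_dec h1 q1, hf]
    · simp [bas_dec h3 q3, hf]

theorem Bf_bas_eq_zero {a : ℕ} (ha : a < 27) (x y : I27 → F)
    (h : ∀ p ∈ perms, p.2.1 = a → x (dec p.2.2.1) = 0) : Bf (bas a) x y = 0 := by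
  refine List.sum_eq_zero fun z hz => ?_
  obtain ⟨p, hp, rfl⟩ := List.mem_map.1 hz
  by_cases e : p.2.1 = a
  · simp [h p hp e]
  · simp [bas_dec ha (perms_lt p hp).1, e]

theorem Lf_bas {n : ℕ} (hn : n < 27) (y : I27 → F) : Lf (bas n) y = 0 := by
  have hd : ∀ p ∈ halves, p.2.1 ≠ p.2.2.1 := fun p hp => by
    have := (List.mem_filter.1 hp).2
    simp only [Nat.blt_eq] at this
    omega
  refine List.sum_eq_zero fun z hz => ?_
  obtain ⟨p, hp, rfl⟩ := List.mem_map.1 hz
  obtain ⟨h1, h2, -⟩ := perms_lt p (List.mem_filter.1 hp).1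
  by_cases e : p.2.1 = n
  · simp [bas_dec hn h2, show p.2.2.1 ≠ n from fun e' => hd p hp (e.trans e'.symm)]
  · simp [bas_dec hn h1, e]

end Cfsg.Agent.E6Cubic
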