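import Cfsg.Agent.Lib.E6Cubic.Form

/-!
The isometry group of the cubic form is generated by the root elements: an isometry fixing some basis vectors
is straightened at one more basis vector by root elements fixing those.
-/

set_option autoImplicit false
set_option maxRecDepth 8000

namespace Cfsg.Agent.E6Cubic

open Cfsg.Lie Cfsg.Agent.Chev Matrix

variable {F : Type*} [Field F]

/-- Membership in a list of positions. -/
def memB (P : List ℕ) (a : ℕ) : Bool := P.any fun b => Nat.beq b a

/-- Two positions lie in a common monomial. -/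
def pairB (a b : ℕ) : Bool := perms.any fun q => Nat.beq q.2.1 a && Nat.beq q.2.2.1 b

/-- The positions collinear with a given one. -/
def sixB (n j : ℕ) : Bool := Nat.blt j 27 && !Nat.beq j n && !pairB n j

/-- Positions where the image is forced to be that of the basis vector. -/
def forced (P : List ℕ) (n j : ℕ) : Bool :=
  perms.any fun p => Nat.beq p.2.2.1 j && memB P p.2.1 &&
    (!pairB p.2.1 n || (memB P p.2.2.2 && !Nat.beq j n))

/-- The root element fixes the basis vectors listed. -/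
def fixesB (P : List ℕ) (r : ℕ) : Bool := Nat.blt r 72 && (moves r).all fun m => !memB P m.1

/-- The only move into `k` comes from `j`. -/
def intoB (r j k : ℕ) : Bool :=
  Nat.blt k 27 && match (moves r).filter fun m => Nat.beq m.2.1 k with
    | [m] => Nat.beq m.1 j && (m.2.2 * m.2.2 == 1)
    | _ => false

/-- No move into `k`. -/
def noneB (r k : ℕ) : Bool := ((moves r).filter fun m => Nat.beq m.2.1 k).isEmpty

/-- A path of root elements. -/
def pathB (P : List ℕ) (n : ℕ) : ℕ → List (ℕ × ℕ) → Bool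
  | j, [] => Nat.beq j n
  | j, e :: l => fixesB P e.1 && intoB e.1 j e.2 && pathB P n e.2 l

/-- The coordinate is one. -/
def oneB (P : List ℕ) (n : ℕ) : Bool :=
  perms.any fun p => Nat.beq p.2.2.1 n && memB P p.2.1 && memB P p.2.2.2

/-- The set in which a coordinate must not vanish. -/
def inS : Option ℕ → ℕ → Bool
  | none, _ => true
  | some a, j => pairB a j

/-- The anchor is one. -/
def anchorB (P : List ℕ) (n : ℕ) : Option ℕ → Bool
  | none => true
  | some a => memB P a && pairB a n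

/-- The coordinate can be made one. -/
def unitB (P : List ℕ) (s : Step) : Bool :=
  match s.scale with
  | none => oneB P s.n
  | some (r, r', k) =>
    fixesB P r && fixesB P r' && intoB r s.n k && noneB r s.n && intoB r' k s.n &&
    anchorB P s.n s.anchor &&
    allBelow (fun j => !inS s.anchor j || Nat.beq j s.n || forced P s.n j ||
      s.paths.any fun e => Nat.beq e.1 j && pathB P s.n j e.2) 27

/-- A clearing move. -/
def clearB (P : List ℕ) (n : ℕ) (e : ℕ × ℕ) : Bool :=
  sixB n e.1 && fixesB P e.2 && intoB e.2 n e.1 && noneB e.2 n &&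
    allBelow (fun k => !sixB n k || Nat.beq k e.1 || noneB e.2 k) 27

/-- The singular equation kills a coordinate. -/
def tenB (n j : ℕ) : Bool :=
  anyBelow (fun c => match halves.filter fun p => Nat.beq p.2.2.2 c && !(sixB n p.2.1 || sixB n p.2.2.1) with
    | [p] => (Nat.beq p.2.1 n && Nat.beq p.2.2.1 j) || (Nat.beq p.2.1 j && Nat.beq p.2.2.1 n)
    | _ => false) 27

/-- The conditions on a step. -/
def stepB (P : List ℕ) (s : Step) : Bool :=
  Nat.blt s.n 27 && unitB P s && s.clear.all (clearB P s.n) &&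
    allBelow (fun j => Nat.beq j s.n ||
      (bif sixB s.n j then forced P s.n j || s.clear.any (fun e => Nat.beq e.1 j) else tenB s.n j)) 27

/-- The conditions on the whole sequence. -/
def stepsB : List ℕ → List Step → Bool
  | P, [] => allBelow (memB P) 27
  | P, s :: l => stepB P s && stepsB (s.n :: P) l

theorem steps_ok : stepsB [] steps = true := by decide +kernel

theorem memB_iff {P : List ℕ} {a : ℕ} : memB P a = true ↔ a ∈ P := by simp [memB]

variable (F) in
/-- The subgroup generated by the root elements. -/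
def rootGroup : Subgroup (GL I27 F) := Subgroup.closure {g | ∃ r t, gen F r t = g}

theorem rootGroup_le : rootGroup F ≤ E6univ F := by
  rw [rootGroup, Subgroup.closure_le]
  rintro _ ⟨r, t, rfl⟩
  exact gen_mem r t

theorem gen_mem_root (r : ℕ) (t : F) : gen F r t ∈ rootGroup F := Subgroup.subset_closure ⟨r, t, rfl⟩

/-- An isometry fixing the basis vectors listed. -/
structure St (P : List ℕ) (g : GL I27 F) : Prop where
  mem : g ∈ E6univ F
  fix : ∀ a ∈ P, a < 27 ∧ ap g (bas a) = bas a

/-- A coordinate of the image of a basis vector. -/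
def crd (g : GL I27 F) (n j : ℕ) : F := ap g (bas n) (dec j)

theorem fixesB_bas {P : List ℕ} {r : ℕ} (h : fixesB P r = true) (t : F) {a : ℕ} (ha : a ∈ P) (hlt : a < 27) :
    ap (gen F r t) (bas a) = bas a := by
  simp only [fixesB, Bool.and_eq_true, Nat.blt_eq, List.all_eq_true, Bool.not_eq_true'] at h
  funext i
  rw [← dec_cd i, ap, gen_mulVec h.1 t _ (cd_lt i), act, List.sum_eq_zero, mul_zero, add_zero]
  intro z hz
  obtain ⟨m, hm, rfl⟩ := List.mem_map.1 hz
  have hm' := (List.mem_filter.1 hm).1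
  have : m.1 ≠ a := fun e => by simpa [memB_iff.2 (e ▸ ha)] using h.2 m hm'
  simp [bas_dec hlt ((shape_spec (F := F) h.1).1 m hm').1, this]

theorem St.mul_gen {P : List ℕ} {g : GL I27 F} (hg : St P g) {r : ℕ} (hr : fixesB P r = true) (t : F) :
    St P (gen F r t * g) :=
  ⟨mul_mem (gen_mem r t) hg.mem, fun a ha =>
    ⟨(hg.fix a ha).1, by rw [ap_mul, (hg.fix a ha).2, fixesB_bas hr t ha (hg.fix a ha).1]⟩⟩

theorem crd_gen {r : ℕ} (hr : r < 72) (t : F) (g : GL I27 F) (n : ℕ) {k : ℕ} (hk : k < 27) :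
    crd (gen F r t * g) n k = act r t (crd g n) k := by
  rw [crd, ap_mul, ap, gen_mulVec hr t _ hk]
  rfl

theorem crd_none {r k : ℕ} (hr : r < 72) (h : noneB r k = true) (t : F) (g : GL I27 F) (n : ℕ) (hk : k < 27) :
    crd (gen F r t * g) n k = crd g n k := by
  rw [crd_gen hr t g n hk, act, List.isEmpty_iff.1 h]
  simp

theorem crd_into {r j k : ℕ} (hr : r < 72) (h : intoB r j k = true) (g : GL I27 F) (n : ℕ) :
    k < 27 ∧ ∃ ε : F, ε * ε = 1 ∧ ∀ t : F, crd (gen F r t * g) n k = crd g n k + t * (ε * crd g n j) := by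
  simp only [intoB, Bool.and_eq_true, Nat.blt_eq] at h
  obtain ⟨hk, h⟩ := h
  split at h
  · rename_i m heq
    simp only [Bool.and_eq_true, Nat.beq_eq, beq_iff_eq] at h
    refine ⟨hk, (m.2.2 : F), by rw [← Int.cast_mul, h.2, Int.cast_one], fun t => ?_⟩
    rw [crd_gen hr t g n hk, act, heq]
    simp [h.1]
  · simp at h

theorem fixesB_lt {P : List ℕ} {r : ℕ} (h : fixesB P r = true) : r < 72 := by
  simp only [fixesB, Bool.and_eq_true, Nat.blt_eq] at h; exact h.1

variable {P : List ℕ} {n : ℕ} {g : GL I27 F}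

theorem forced_zero (hg : St P g) (hn : n < 27) {j : ℕ} (h : forced P n j = true) : crd g n j = 0 := by
  simp only [forced, List.any_eq_true, Bool.and_eq_true, Nat.beq_eq, memB_iff, Bool.or_eq_true,
    Bool.not_eq_true'] at h
  obtain ⟨p, hp, ⟨rfl, ha⟩, h⟩ := h
  obtain ⟨h1, h2, h3⟩ := perms_lt p hp
  have e : (p.1 : F) * crd g n p.2.2.1 = Bf (bas p.2.1) (bas n) (ap g⁻¹ (bas p.2.2.2)) := by
    rw [crd, ← Bf_read hp]
    conv_rhs => rw [← Bf_ap hg.mem, (hg.fix _ ha).2, ap_inv]
  suffices h0 : Bf (bas p.2.1) (bas n) (ap g⁻¹ (bas p.2.2.2) : I27 → F) = 0 by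
    rw [h0] at e
    exact (mul_eq_zero.1 e).resolve_left (sign_ne_zero hp)
  rcases h with h | ⟨hc, hne⟩
  · refine Bf_bas_eq_zero h1 _ _ fun q hq hqa => ?_
    obtain ⟨-, q2, -⟩ := perms_lt q hq
    have : q.2.2.1 ≠ n := fun e' => by
      simp only [pairB, List.any_eq_false] at h
      exact h q hq (by simp [hqa, e'])
    simp [bas_dec hn q2, this]
  · have hfix : ap g⁻¹ (bas p.2.2.2) = (bas p.2.2.2 : I27 → F) := by
      conv_lhs => rw [← (hg.fix _ hc).2]
      rw [inv_ap]
    have hne' : p.2.2.1 ≠ n := fun e' => by simp [e'] at hne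
    rw [hfix, Bf_read hp]
    simp [bas_dec hn h2, hne']

theorem crd_one (hg : St P g) (hn : n < 27) (h : oneB P n = true) : crd g n n = 1 := by
  simp only [oneB, List.any_eq_true, Bool.and_eq_true, Nat.beq_eq, memB_iff] at h
  obtain ⟨p, hp, ⟨rfl, ha⟩, hc⟩ := h
  have e : (p.1 : F) * crd g p.2.2.1 p.2.2.1 = (p.1 : F) * 1 := by
    have h := Bf_ap hg.mem (bas p.2.1) (bas p.2.2.1) (bas p.2.2.2)
    rw [(hg.fix _ ha).2, (hg.fix _ hc).2, Bf_read hp, Bf_read hp, bas_dec hn hn, if_pos rfl] at h
    exact h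
  exact mul_left_cancel₀ (sign_ne_zero hp) e

theorem some_nonzero (hg : St P g) (hn : n < 27) {a : Option ℕ} (ha : anchorB P n a = true) :
    ∃ j, j < 27 ∧ inS a j = true ∧ crd g n j ≠ 0 := by
  by_contra hcon
  push Not at hcon
  cases a with
  | none =>
    have hz : ap g (bas n) = 0 := by
      funext i
      simpa [crd, dec_cd] using hcon (cd i) (cd_lt i) rfl
    have h := inv_ap g (bas n)
    rw [hz, ap, Matrix.mulVec_zero] at h
    simpa [bas] using congrFun h.symm (dec n)
  | some a =>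
    simp only [anchorB, Bool.and_eq_true, memB_iff, pairB, List.any_eq_true, Nat.beq_eq] at ha
    obtain ⟨haP, p, hp, rfl, rfl⟩ := ha
    obtain ⟨h1, h2, -⟩ := perms_lt p hp
    have h := Bf_ap hg.mem (bas p.2.1) (bas p.2.2.1) (bas p.2.2.2)
    rw [(hg.fix _ haP).2, Bf_read hp, bas_dec hn hn, if_pos rfl, mul_one,
      Bf_bas_eq_zero h1 _ _ fun q hq hqa => hcon q.2.2.1 (perms_lt q hq).2.1 (by
        simp only [inS, pairB, List.any_eq_true]
        exact ⟨q, hq, by simp [hqa]⟩)] at h
    exact sign_ne_zero hp h.symm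

theorem path_nonzero : ∀ (l : List (ℕ × ℕ)) (j : ℕ), pathB P n j l = true → ∀ g : GL I27 F, St P g →
    crd g n j ≠ 0 → ∃ h ∈ rootGroup F, St P (h * g) ∧ crd (h * g) n n ≠ 0
  | [], j, hp, g, hg, h0 => by
    simp only [pathB, Nat.beq_eq] at hp
    subst hp
    exact ⟨1, one_mem _, by rwa [one_mul], by rwa [one_mul]⟩
  | e :: l, j, hp, g, hg, h0 => by
    simp only [pathB, Bool.and_eq_true] at hp
    obtain ⟨⟨hf, hi⟩, hl⟩ := hp
    obtain ⟨-, ε, hε, hc⟩ := crd_into (fixesB_lt hf) hi g n
    obtain ⟨t, ht⟩ : ∃ t : F, crd (gen F e.1 t * g) n e.2 ≠ 0 := by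
      by_cases hk : crd g n e.2 = 0
      · refine ⟨1, ?_⟩
        rw [hc, hk, zero_add, one_mul]
        exact mul_ne_zero (fun h => by simp [h] at hε) h0
      · exact ⟨0, by rwa [hc, zero_mul, add_zero]⟩
    obtain ⟨h, hh, hst, hne⟩ := path_nonzero l e.2 hl _ (hg.mul_gen hf t) ht
    exact ⟨h * gen F e.1 t, mul_mem hh (gen_mem_root _ _), by rwa [mul_assoc], by rwa [mul_assoc]⟩

theorem make_one {s : Step} (hn : s.n < 27) (hu : unitB P s = true) (hg : St P g) :
    ∃ h ∈ rootGroup F, St P (h * g) ∧ crd (h * g) s.n s.n = 1 := by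
  unfold unitB at hu
  split at hu
  · exact ⟨1, one_mem _, by rwa [one_mul], by rw [one_mul]; exact crd_one hg hn hu⟩
  · rename_i r r' k _
    simp only [Bool.and_eq_true, allBelow_eq_true, Bool.or_eq_true, Bool.not_eq_true', Nat.beq_eq,
      List.any_eq_true] at hu
    obtain ⟨⟨⟨⟨⟨⟨hr, hr'⟩, hi⟩, hno⟩, hi'⟩, ha⟩, hS⟩ := hu
    obtain ⟨h₁, hh₁, hst, hne⟩ : ∃ h ∈ rootGroup F, St P (h * g) ∧ crd (h * g) s.n s.n ≠ 0 := by
      obtain ⟨j, hj, hjS, hj0⟩ := some_nonzero hg hn ha
      rcases hS j hj with ((h | h) | h) | ⟨e, -, -, he⟩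
      · simp [hjS] at h
      · subst h; exact ⟨1, one_mem _, by rwa [one_mul], by rwa [one_mul]⟩
      · exact absurd (forced_zero hg hn h) hj0
      · exact path_nonzero e.2 j he g hg hj0
    set g₁ := h₁ * g with hg₁
    obtain ⟨hk, ε, hε, hc⟩ := crd_into (fixesB_lt hr) hi g₁ s.n
    set c := crd g₁ s.n s.n
    have hεc : ε * c ≠ 0 := mul_ne_zero (fun h => by simp [h] at hε) hne
    obtain ⟨-, η, hη, hd⟩ := crd_into (fixesB_lt hr') hi' (g₁) s.n
    set t := (η * (1 - c) - crd g₁ s.n k) / (ε * c)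
    have hk' : crd (gen F r t * g₁) s.n k = η * (1 - c) := by
      rw [hc, div_mul_cancel₀ _ hεc]; ring
    obtain ⟨-, η', hη', hd'⟩ := crd_into (fixesB_lt hr') hi' (gen F r t * g₁) s.n
    have hnn := crd_none (fixesB_lt hr) hno t g₁ s.n hn
    refine ⟨gen F r' (η' * η) * (gen F r t * h₁), mul_mem (gen_mem_root _ _) (mul_mem (gen_mem_root _ _) hh₁),
      ?_, ?_⟩
    · rw [mul_assoc, mul_assoc]; exact (hst.mul_gen hr t).mul_gen hr' _
    · rw [mul_assoc, mul_assoc, ← hg₁, hd', hnn, hk']
      linear_combination (1 - c) * (η * η) * hη' + (1 - c) * hη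

theorem clear_all : ∀ (L : List (ℕ × ℕ)), (∀ e ∈ L, clearB P n e = true) → ∀ g : GL I27 F, n < 27 → St P g →
    crd g n n = 1 → ∃ h ∈ rootGroup F, St P (h * g) ∧ crd (h * g) n n = 1 ∧
      (∀ e ∈ L, crd (h * g) n e.1 = 0) ∧
      ∀ k, k < 27 → sixB n k = true → (∀ e ∈ L, e.1 ≠ k) → crd (h * g) n k = crd g n k
  | [], _, g, _, hg, h1 => ⟨1, one_mem _, by rwa [one_mul], by rwa [one_mul], by simp, by simp⟩
  | e :: L, hL, g, hn, hg, h1 => by
    obtain ⟨h, hh, hst, hh1, hz, hrest⟩ := clear_all L (fun a ha => hL a (List.mem_cons_of_mem _ ha)) g hn hg h1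
    have he := hL e List.mem_cons_self
    simp only [clearB, Bool.and_eq_true, allBelow_eq_true, Bool.or_eq_true, Bool.not_eq_true', Nat.beq_eq] at he
    obtain ⟨⟨⟨⟨-, hf⟩, hi⟩, hno⟩, hk⟩ := he
    obtain ⟨hj, ε, hε, hc⟩ := crd_into (fixesB_lt hf) hi (h * g) n
    set t := -(ε * crd (h * g) n e.1)
    have keep : ∀ k, k < 27 → sixB n k = true → k ≠ e.1 →
        crd (gen F e.2 t * (h * g)) n k = crd (h * g) n k := by
      intro k hk' h6 hne
      rcases hk k hk' with (h | h) | h
      · simp [h6] at h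
      · exact absurd h hne
      · exact crd_none (fixesB_lt hf) h t _ n hk'
    have hzero : crd (gen F e.2 t * (h * g)) n e.1 = 0 := by
      rw [hc, hh1]; linear_combination (-crd (h * g) n e.1) * hε
    refine ⟨gen F e.2 t * h, mul_mem (gen_mem_root _ _) hh, by rw [mul_assoc]; exact hst.mul_gen hf t,
      ?_, ?_, ?_⟩
    · rw [mul_assoc, crd_none (fixesB_lt hf) hno t _ n hn, hh1]
    · intro a ha
      rw [mul_assoc]
      rcases List.mem_cons.1 ha with rfl | ha
      · exact hzero
      · by_cases hae : a.1 = e.1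
        · rw [hae]; exact hzero
        · have h6 : sixB n a.1 = true ∧ a.1 < 27 := by
            have := hL a (List.mem_cons_of_mem _ ha)
            simp only [clearB, Bool.and_eq_true] at this
            obtain ⟨⟨⟨⟨h, -⟩, -⟩, -⟩, -⟩ := this
            refine ⟨h, ?_⟩
            simp only [sixB, Bool.and_eq_true, Nat.blt_eq] at h
            exact h.1.1
          rw [keep a.1 h6.2 h6.1 hae, hz a ha]
    · intro k hk' h6 hne
      rw [mul_assoc, keep k hk' h6 (fun h => hne e List.mem_cons_self h.symm),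
        hrest k hk' h6 fun a ha => hne a (List.mem_cons_of_mem _ ha)]

theorem straighten {s : Step} (h : stepB P s = true) {a : F} (ha0 : a ≠ 0) (ha1 : a ≠ 1) (hg : St P g) :
    ∃ h ∈ rootGroup F, St (s.n :: P) (h * g) := by
  simp only [stepB, Bool.and_eq_true, Nat.blt_eq, List.all_eq_true, allBelow_eq_true, Bool.or_eq_true,
    Nat.beq_eq] at h
  obtain ⟨⟨⟨hn, hu⟩, hcl⟩, hcov⟩ := h
  obtain ⟨h₁, hh₁, hst₁, hone⟩ := make_one hn hu hg
  obtain ⟨h₂, hh₂, hst₂, hone₂, hz, -⟩ := clear_all s.clear hcl (h₁ * g) hn hst₁ hone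
  refine ⟨h₂ * h₁, mul_mem hh₂ hh₁, ?_⟩
  rw [mul_assoc]
  set g₂ := h₂ * (h₁ * g)
  refine ⟨hst₂.mem, fun b hb => ?_⟩
  rcases List.mem_cons.1 hb with rfl | hb
  swap
  · exact hst₂.fix b hb
  refine ⟨hn, ?_⟩
  have hsix : ∀ j < 27, sixB s.n j = true → crd g₂ s.n j = 0 := by
    intro j hj h6
    rcases hcov j hj with h | h
    · simp [sixB, h] at h6
    rw [h6, cond_true, Bool.or_eq_true] at h
    rcases h with h | h
    · exact forced_zero hst₂ hn h
    · simp only [List.any_eq_true, Nat.beq_eq] at h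
      obtain ⟨e, he, rfl⟩ := h
      exact hz e he
  have hten : ∀ j < 27, j ≠ s.n → crd g₂ s.n j = 0 := by
    intro j hj hne
    cases h6 : sixB s.n j with
    | true => exact hsix j hj h6
    | false =>
      have h := (hcov j hj).resolve_left hne
      rw [h6, cond_false] at h
      simp only [tenB, anyBelow_eq_true] at h
      obtain ⟨c, hc, h⟩ := h
      split at h
      · rename_i p heq
        have hp : p ∈ perms := (List.mem_filter.1 (List.mem_filter.1
          (heq ▸ List.mem_singleton_self p : p ∈ halves.filter _)).1).1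
        have hL : Lf (ap g₂ (bas s.n)) (bas c : I27 → F) = 0 := by
          rw [← ap_inv g₂ (bas c), Lf_ap ha0 ha1 hst₂.mem, Lf_bas hn]
        rw [Lf, sum_filter_eq _ _
          (fun q => Nat.beq q.2.2.2 c && !(sixB s.n q.2.1 || sixB s.n q.2.2.1)), heq] at hL
        swap
        · intro q hq hf
          obtain ⟨q1, q2, q3⟩ := perms_lt q (List.mem_filter.1 hq).1
          by_cases hqc : q.2.2.2 = c
          · cases h6a : sixB s.n q.2.1 with
            | true => have := hsix _ q1 h6a; simp only [crd] at this; simp [this]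
            | false =>
              simp [hqc, h6a] at hf
              have := hsix _ q2 hf; simp only [crd] at this; simp [this]
          · simp [bas_dec hc q3, hqc]
        have hpc : p.2.2.2 = c := by
          have := (List.mem_filter.1 (heq ▸ List.mem_singleton_self p : p ∈ halves.filter _)).2
          simp at this; exact this.1
        simp only [List.map_cons, List.map_nil, List.sum_cons, List.sum_nil, add_zero, hpc,
          bas_dec hc hc, ↓reduceIte, mul_one, mul_eq_zero, sign_ne_zero hp, false_or] at hL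
        have h1' : ap g₂ (bas s.n) (dec s.n) = 1 := hone₂
        simp only [Bool.or_eq_true, Bool.and_eq_true, Nat.beq_eq] at h
        rcases h with ⟨e1, e2⟩ | ⟨e1, e2⟩ <;> rw [e1, e2] at hL <;>
          simp only [h1', one_ne_zero, false_or, or_false] at hL <;> exact hL
      · simp at h
  funext i
  rw [← dec_cd i]
  by_cases hi : cd i = s.n
  · rw [hi, bas_dec hn hn, if_pos rfl]; exact hone₂
  · rw [bas_dec hn (cd_lt i), if_neg hi]; exact hten _ (cd_lt i) hi

theorem eq_one_of_fix (h : allBelow (memB P) 27 = true) (hg : St P g) : g = 1 := by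
  apply Units.ext
  rw [← Matrix.mulVec_injective.eq_iff]
  refine funext fun x => ?_
  have : (Matrix.mulVecLin (g : Matrix I27 I27 F)) = LinearMap.id := by
    refine (Pi.basisFun F I27).ext fun i => ?_
    have := (hg.fix (cd i) (memB_iff.1 (allBelow_eq_true.1 h _ (cd_lt i)))).2
    simpa [bas, ap, dec_cd, Pi.basisFun_apply] using this
  simpa using LinearMap.congr_fun this x

theorem root_of_steps {a : F} (ha0 : a ≠ 0) (ha1 : a ≠ 1) : ∀ (L : List Step) (P : List ℕ),
    stepsB P L = true → ∀ g : GL I27 F, St P g → g ∈ rootGroup F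
  | [], P, h, g, hg => by rw [eq_one_of_fix h hg]; exact one_mem _
  | s :: L, P, h, g, hg => by
    simp only [stepsB, Bool.and_eq_true] at h
    obtain ⟨k, hk, hst⟩ := straighten h.1 ha0 ha1 hg
    exact (Subgroup.mul_mem_cancel_left _ hk).1 (root_of_steps ha0 ha1 L _ h.2 _ hst)

theorem rootGroup_eq {a : F} (ha0 : a ≠ 0) (ha1 : a ≠ 1) : rootGroup F = E6univ F :=
  le_antisymm rootGroup_le fun g hg => root_of_steps ha0 ha1 steps [] steps_ok g ⟨hg, by simp⟩

end Cfsg.Agent.E6Cubic
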