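import Cfsg.Agent.Lib.E6Cubic.Gen
import Cfsg.Agent.Lib.Lie.StMain
import Cfsg.Agent.Lib.Lie.ChevSimple
import Cfsg.Agent.Lib.Lie.NatRep
import Cfsg.Agent.S2397

/-! The group of the cubic form modulo its centre is the Chevalley group of type E6. -/

set_option autoImplicit false
set_option maxRecDepth 8000

namespace Cfsg.Agent.E6Cubic

open Cfsg.Lie Cfsg.Agent.Chev

variable {F : Type*} [Field F]

theorem rep_surjective {a : F} (ha0 : a ≠ 0) (ha1 : a ≠ 1) : Function.Surjective (rep F) := by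
  have h : rootGroup F ≤ (rep F).range.map (E6univ F).subtype := by
    rw [rootGroup, Subgroup.closure_le]
    rintro _ ⟨r, t, rfl⟩
    exact ⟨_, ⟨tb.D.scGen F r t, rfl⟩, rep_scGen r t⟩
  intro y
  obtain ⟨x, ⟨z, rfl⟩, hx⟩ := h ((rootGroup_eq ha0 ha1).ge y.2)
  exact ⟨z, Subtype.ext hx⟩

theorem nil_ne_zero : nil F 56 ≠ 0 := by
  intro h
  obtain ⟨s, k, ε, hm⟩ : ∃ s k ε, (moves 56).head? = some (s, k, ε) := by
    cases hh : (moves 56).head? with
    | none => exact absurd hh (by decide)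
    | some m => exact ⟨_, _, _, rfl⟩
  have hone : ((moves 56).filter fun m => Nat.beq m.2.1 k) = [(s, k, ε)] ∧ s < 27 ∧ k < 27 ∧ ε * ε = 1 := by
    have key : ∀ m ∈ moves 56,
        ((moves 56).filter fun x => Nat.beq x.2.1 m.2.1) = [m] ∧ m.1 < 27 ∧ m.2.1 < 27 ∧ m.2.2 * m.2.2 = 1 := by
      decide +kernel
    exact key (s, k, ε) (List.mem_of_mem_head? hm)
  have h1 := sm_mulVec (F := F) (bas s) hone.2.2.1 (moves 56) (shape_spec (F := F) (by norm_num)).1
  rw [show sm F (moves 56) = 0 from h, Matrix.zero_mulVec, hone.1] at h1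
  simp [bas_dec hone.2.1 hone.2.1] at h1
  have h2 : ((ε * ε : ℤ) : F) = 1 := by rw [hone.2.2.2, Int.cast_one]
  rw [Int.cast_mul, ← h1] at h2
  simp at h2

/-- A surjection from the group presented by (R1), (R2) computes the Chevalley group. -/
theorem cover_quot_equiv {T : Tab} {K : List (List ℕ)} {W : List (ℕ × ℕ × ℕ)} (gW : T.GoodW K W)
    (hsimp : IsSimpleGroup ↥(T.D.group F))
    (e : T.D.SteinbergCover F ≃* T.D.SteinbergGroup F)
    (hp : commutator (T.D.SteinbergCover F) = ⊤) {H : Type*} [Group H] (ρ : T.D.SteinbergCover F →* H)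
    (hρ : Function.Surjective ρ) (hne : ρ.ker ≠ ⊤) :
    Nonempty (↥(T.D.group F) ≃* H ⧸ Subgroup.center H) := by
  haveI := hsimp
  let θ : T.D.SteinbergCover F →* ↥(T.D.group F) :=
    MonoidHom.mk' (fun x => Tab.θG gW.toGoodA F (e x)) fun a b => by simp only [map_mul]
  have hθ : Function.Surjective θ := fun y => by
    obtain ⟨z, hz⟩ := Tab.θG_surjective (F := F) gW.toGoodA y
    obtain ⟨x, rfl⟩ := e.surjective z
    exact ⟨x, hz⟩
  have hθk : θ.ker = Subgroup.center (T.D.SteinbergCover F) := by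
    have hk : (Tab.θG gW.toGoodA F).ker = Subgroup.center (T.D.SteinbergGroup F) :=
      (Tab.θG_ker gW.toGoodA).trans (Tab.ker_eq_center gW)
    ext x
    have : x ∈ θ.ker ↔ e x ∈ Subgroup.center (T.D.SteinbergGroup F) := by rw [← hk]; rfl
    rw [this, Subgroup.mem_center_iff, Subgroup.mem_center_iff]
    exact ⟨fun h y => e.injective (by rw [map_mul, map_mul]; exact h (e y)), fun h y => by
      obtain ⟨z, rfl⟩ := e.surjective y
      exact (map_mul e z x).symm.trans ((congrArg e (h z)).trans (map_mul e x z))⟩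
  exact Tab.center_quot_equiv θ hθ hθk hp ρ hρ hne

/-- `E₆(F)` of the cubic form is the Chevalley group of type E6. -/
theorem equiv_chev [Finite F] {a : F} (ha0 : a ≠ 0) (ha1 : a ≠ 1) :
    Nonempty (Lie.E6 F ≃* ↥(chevE6.group F)) := by
  have gW : tb.GoodW
      [[4, 3, 5, 6, 4, 2], [3, 6, 6, 9, 6, 3], [5, 6, 10, 12, 8, 4], [6, 9, 12, 18, 12, 6],
        [4, 6, 8, 12, 10, 5], [2, 3, 4, 6, 5, 4]]
      [(16, 66, 0), (1, 71, 0), (5, 69, 0), (2, 70, 0), (3, 69, 0), (4, 68, 0)] :=
    ⟨⟨⟨E6Data.good, by decide +kernel⟩, by decide +kernel⟩, by decide +kernel⟩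
  have gS : tb.GoodS := ⟨⟨E6Data.good, by decide +kernel⟩, by decide +kernel, by decide +kernel⟩
  obtain ⟨e, -⟩ := Cfsg.Agent.S2397.result (K := F) tb.D
    (by rw [show tb.D = chevE6 from rfl]; simp) fun h => by
    exfalso
    rw [show tb.D = chevE6 from rfl] at h
    have : chevE6.nroots = 8 ∨ chevE6.nroots = 12 := by
      rcases List.mem_cons.1 h with h | h
      · rw [h]; exact Or.inl rfl
      · rw [List.mem_singleton.1 h]; exact Or.inr rfl
    exact absurd this (by decide)
  have hp : commutator (tb.D.SteinbergCover F) = ⊤ :=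
    Tab.commutator_steinbergCover_eq_top (K := F) gW.toGood (two := false)
      (fun h => absurd h Bool.false_ne_true) (by decide +kernel)
  obtain ⟨q⟩ := cover_quot_equiv gW (Tab.group_simple (F := F) gS (Or.inl (by decide +kernel))).1 e
    hp (rep F) (rep_surjective ha0 ha1) (fun htop => by
      have h1 : rep F (tb.D.scGen F 56 1) = 1 :=
        MonoidHom.mem_ker.1 (by rw [htop]; exact Subgroup.mem_top _)
      have h2 : gen F 56 1 = 1 := by
        rw [← rep_scGen (F := F) 56 1, h1]; rfl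
      have h3 := congrArg Units.val h2
      simp [gen] at h3
      exact nil_ne_zero h3)
  exact ⟨q.symm⟩

end Cfsg.Agent.E6Cubic
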