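import Cfsg.Agent.Lib.E6Cubic.Checks
import Cfsg.Agent.Lib.Lie.ChevComm
import Cfsg.Agent.Lib.Lie.StBasic
import Cfsg.Agent.Lib.Lie.SteinbergPerfect
import Cfsg.Prelude.Def_E6

/-! The root elements of type E6 as isometries of the cubic form in 27 variables. -/

set_option autoImplicit false

namespace Cfsg.Agent.E6Cubic

open Cfsg.Lie Cfsg.Agent.Chev Matrix

variable {F : Type*} [Field F]

/-- The number of a position. -/
def cd (i : I27) : ℕ := 9 * i.1.val + 3 * i.2.1.val + i.2.2.val

/-- The position with a number. -/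
def dec (n : ℕ) : I27 :=
  (⟨n / 9 % 3, Nat.mod_lt _ (by norm_num)⟩, ⟨n / 3 % 3, Nat.mod_lt _ (by norm_num)⟩,
    ⟨n % 3, Nat.mod_lt _ (by norm_num)⟩)

theorem cd_lt (i : I27) : cd i < 27 := by
  obtain ⟨⟨a, ha⟩, ⟨b, hb⟩, ⟨c, hc⟩⟩ := i; simp only [cd]; omega

theorem dec_cd (i : I27) : dec (cd i) = i := by
  obtain ⟨⟨a, ha⟩, ⟨b, hb⟩, ⟨c, hc⟩⟩ := i
  simp only [dec, cd, Prod.ext_iff, Fin.ext_iff]
  omega

theorem cd_dec {n : ℕ} (h : n < 27) : cd (dec n) = n := by simp only [dec, cd]; omega

theorem dec_inj {a b : ℕ} (ha : a < 27) (hb : b < 27) : dec a = dec b ↔ a = b :=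
  ⟨fun h => by rw [← cd_dec ha, h, cd_dec hb], fun h => h ▸ rfl⟩

variable (F) in
/-- The matrix of a sparse integer matrix. -/
def sm : List Ent → Matrix I27 I27 F
  | [] => 0
  | m :: L => Matrix.single (dec m.2.1) (dec m.1) (m.2.2 : F) + sm L

theorem sm_append : ∀ A B : List Ent, sm F (A ++ B) = sm F A + sm F B
  | [], B => by simp [sm]
  | m :: A, B => by simp [sm, sm_append A B, add_assoc]

theorem sm_scal (c : ℤ) : ∀ A : List Ent, sm F (scal c A) = (c : F) • sm F A
  | [] => by simp [sm, scal]
  | m :: A => by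
    have ih := sm_scal c A
    simp only [scal] at ih
    simp [sm, scal, ih, Matrix.smul_single]

/-- Positions inside. -/
def EBd (A : List Ent) : Prop := ∀ m ∈ A, m.1 < 27 ∧ m.2.1 < 27

theorem sm_single_right (m : Ent) (hm : m.2.1 < 27) : ∀ A : List Ent, EBd A →
    sm F ((A.filter fun n => Nat.beq n.1 m.2.1).map fun n => (m.1, n.2.1, n.2.2 * m.2.2)) =
      sm F A * Matrix.single (dec m.2.1) (dec m.1) (m.2.2 : F)
  | [], _ => by simp [sm]
  | n :: A, h => by
    have ih := sm_single_right m hm A fun x hx => h x (List.mem_cons_of_mem _ hx)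
    have hn := h n List.mem_cons_self
    by_cases e : n.1 = m.2.1
    · rw [List.filter_cons, if_pos (by simpa using e)]
      simp [sm, ih, add_mul, e]
    · rw [List.filter_cons, if_neg (by simpa using e)]
      simp [sm, ih, add_mul, Matrix.single_mul_single_of_ne, (dec_inj hn.1 hm).not.2 e]

theorem sm_comp {A : List Ent} (hA : EBd A) : ∀ B : List Ent, EBd B → sm F (comp A B) = sm F A * sm F B
  | [], _ => by simp [sm, comp]
  | m :: B, h => by
    have ih := sm_comp hA B fun x hx => h x (List.mem_cons_of_mem _ hx)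
    rw [comp, List.flatMap_cons, sm_append, sm_single_right m (h m List.mem_cons_self).2 A hA,
      ← comp, ih, sm, mul_add]

theorem sm_ins (x : Ent) : ∀ L : List Ent, sm F (insEnt x L) = sm F (x :: L)
  | [] => rfl
  | y :: L => by
    rw [insEnt]
    cases h : entEq x y with
    | false => simp only [cond_false, sm, sm_ins x L]; abel
    | true =>
      simp only [entEq, Bool.and_eq_true, Nat.beq_eq] at h
      cases h0 : (x.2.2 + y.2.2 == 0) with
      | false => simp only [cond_false, cond_true, sm, ← add_assoc, h.1, h.2, Int.cast_add, Matrix.single_add]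
      | true =>
        simp only [cond_true, sm, ← add_assoc, h.1, h.2, ← Matrix.single_add, ← Int.cast_add,
          beq_iff_eq.1 h0, Int.cast_zero, Matrix.single_zero, zero_add]

theorem sm_eq_zero {L : List Ent} (h : (L.foldr insEnt []).isEmpty = true) : sm F L = 0 := by
  have e : ∀ L : List Ent, sm F (L.foldr insEnt []) = sm F L := by
    intro L
    induction L with
    | nil => rfl
    | cons x L ih => rw [List.foldr_cons, sm_ins]; simp [sm, ih]
  rw [← e L, List.isEmpty_iff.1 h]; rfl

theorem shape_spec {r : ℕ} (hr : r < 72) : EBd (moves r) ∧ sm F (comp (moves r) (moves r)) = 0 := by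
  have h := allBelow_eq_true.1 shape_ok r hr
  simp only [Bool.and_eq_true, List.all_eq_true] at h
  refine ⟨fun m hm => ?_, by rw [List.isEmpty_iff.1 h.2]; rfl⟩
  have := h.1 m hm
  simpa using this

theorem moves_out {r : ℕ} (hr : ¬ r < 72) : moves r = [] := by
  rw [moves, show Nat.blt r 72 = false from Bool.eq_false_iff.2 fun h => hr (by simpa using h)]; rfl

variable (F) in
/-- The matrix of the root vector. -/
def nil (r : ℕ) : Matrix I27 I27 F := sm F (moves r)

theorem nil_sq (r : ℕ) : nil F r * nil F r = 0 := by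
  by_cases hr : r < 72
  · obtain ⟨h, h2⟩ := shape_spec (F := F) hr
    rw [nil, ← sm_comp h _ h, h2]
  · simp [nil, moves_out hr, sm]

theorem unit_eq (r : ℕ) (a b : F) :
    (1 + a • nil F r) * (1 + b • nil F r) = 1 + (a + b) • nil F r := by
  simp only [add_mul, mul_add, one_mul, mul_one, Matrix.smul_mul, Matrix.mul_smul, nil_sq, smul_zero,
    add_zero, add_smul]
  abel

variable (F) in
/-- The root element. -/
def gen (r : ℕ) (t : F) : GL I27 F :=
  ⟨1 + t • nil F r, 1 + (-t) • nil F r, by rw [unit_eq, add_neg_cancel, zero_smul, add_zero],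
    by rw [unit_eq, neg_add_cancel, zero_smul, add_zero]⟩

theorem gen_add (r : ℕ) (a b : F) : gen F r a * gen F r b = gen F r (a + b) :=
  Units.ext (unit_eq r a b)

theorem gen_out {r : ℕ} (hr : ¬ r < 72) (t : F) : gen F r t = 1 :=
  Units.ext (by simp [gen, nil, moves_out hr, sm])

theorem gen_inv (r : ℕ) (a : F) : (gen F r a)⁻¹ = gen F r (-a) := Units.ext rfl

theorem cWord_spec {r s : ℕ} (hr : r < 72) (hs : s < 72) (h1 : s ≠ r) (h2 : s ≠ tb.neg r) (t u : F) :
    gen F s u * gen F r t =
      gen F r t * gen F s u * ((Tab.cVal tb F r s t u).map fun e => gen F e.1 e.2).prod := by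
  obtain ⟨br, -⟩ := shape_spec (F := F) hr
  obtain ⟨bs, -⟩ := shape_spec (F := F) hs
  have h := allBelow_eq_true.1 (allBelow_eq_true.1 rel_ok r hr) s hs
  simp only [Bool.or_eq_true, Nat.beq_eq, h1, h2, false_or, relOK] at h
  apply Units.ext
  unfold Tab.cVal
  split at h
  · rename_i heq
    have hz : sm F (comp (moves s) (moves r) ++ scal (-1) (comp (moves r) (moves s))) = 0 := sm_eq_zero h
    rw [sm_append, sm_scal, sm_comp bs _ br, sm_comp br _ bs, Int.cast_neg, Int.cast_one, neg_one_smul,
      ← sub_eq_add_neg, sub_eq_zero] at hz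
    rw [heq]
    simp only [List.map_nil, List.prod_nil, mul_one, Units.val_mul, gen]
    change (1 + u • nil F s) * (1 + t • nil F r) = (1 + t • nil F r) * (1 + u • nil F s)
    simp only [nil, add_mul, mul_add, one_mul, mul_one, Matrix.smul_mul, Matrix.mul_smul, hz,
      smul_comm t u]
    abel
  · rename_i k c heq
    simp only [Bool.and_eq_true, Nat.blt_eq] at h
    obtain ⟨⟨⟨hk, hz⟩, h3⟩, h4⟩ := h
    obtain ⟨bk, -⟩ := shape_spec (F := F) hk
    have e := sm_eq_zero (F := F) hz
    rw [sm_append, sm_append, sm_scal, sm_scal, sm_comp bs _ br, sm_comp br _ bs, Int.cast_neg,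
      Int.cast_one, neg_one_smul] at e
    have e3 : nil F r * nil F k = 0 := by
      rw [nil, nil, ← sm_comp br _ bk, List.isEmpty_iff.1 h3]; rfl
    have e4 : nil F s * nil F k = 0 := by
      rw [nil, nil, ← sm_comp bs _ bk, List.isEmpty_iff.1 h4]; rfl
    have e' : nil F s * nil F r = nil F r * nil F s - (c : F) • nil F k := by
      rw [← sub_eq_zero, ← e]; simp only [nil]; abel
    have e5 : nil F r * (nil F s * nil F k) = 0 := by rw [e4, Matrix.mul_zero]
    rw [heq]
    simp only [List.map_cons, List.map_nil, List.prod_cons, List.prod_nil, mul_one, Units.val_mul, gen]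
    change (1 + u • nil F s) * (1 + t • nil F r) =
      (1 + t • nil F r) * (1 + u • nil F s) * (1 + ((c : F) * (-t) ^ 1 * u ^ 1) • nil F k)
    simp only [add_mul, mul_add, one_mul, mul_one, Matrix.smul_mul, Matrix.mul_smul, Matrix.mul_assoc,
      e3, e4, Matrix.mul_zero, smul_zero, add_zero, e']
    match_scalars <;> ring
  · exact absurd h (by simp)

theorem gen_comm {r s : ℕ} (hr : r < 72) (hs : s < 72) (h1 : s ≠ r) (h2 : s ≠ tb.neg r) (t u : F) :
    (gen F s u)⁻¹ * (gen F r t)⁻¹ * gen F s u * gen F r t =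
      ((Tab.cVal tb F r s t u).map fun e => gen F e.1 e.2).prod := by
  rw [mul_assoc ((gen F s u)⁻¹ * _), cWord_spec hr hs h1 h2]
  group

/-- The value of the form on a function on positions. -/
def Tz (x : ℕ → F) : F := (mons.map fun m => (m.1 : F) * x m.2.1 * x m.2.2.1 * x m.2.2.2).sum

theorem cubicT_eq (v : I27 → F) : cubicT v = Tz (fun n => v (dec n)) := by
  simp [cubicT, Tz, mons, mat3, Matrix.det_fin_three, Matrix.trace, Matrix.diag, Matrix.mul_apply,
    Fin.sum_univ_three, dec]
  ring

/-- The value of a term. -/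
def tval (t : F) (x : ℕ → F) (e : Term) : F :=
  (e.1 : F) * t ^ e.2.1 * (x e.2.2.1 * x e.2.2.2.1 * x e.2.2.2.2)

/-- The value of a list of terms. -/
def tsum (t : F) (x : ℕ → F) (L : List Term) : F := (L.map (tval t x)).sum

theorem cswap_mul (x : ℕ → F) (a b : ℕ) : x (cswap a b).1 * x (cswap a b).2 = x a * x b := by
  unfold cswap
  cases Nat.ble a b <;> simp [mul_comm]

theorem tval_sort3 (t : F) (x : ℕ → F) (e : Term) : tval t x (sort3 e) = tval t x e := by
  obtain ⟨c, d, a, b, k⟩ := e
  simp only [sort3, tval]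
  have h1 := cswap_mul x a b
  generalize cswap a b = p at *
  have h2 := cswap_mul x p.2 k
  generalize cswap p.2 k = q at *
  have h3 := cswap_mul x p.1 q.1
  generalize cswap p.1 q.1 = s at *
  linear_combination ((c : F) * t ^ d) * (x q.2 * h3 + x p.1 * h2 + x k * h1)

theorem tsum_ins (t : F) (x : ℕ → F) (e : Term) : ∀ L : List Term,
    tsum t x (insTerm e L) = tval t x e + tsum t x L
  | [] => by simp [insTerm, tsum]
  | y :: L => by
    have ih := tsum_ins t x e L
    simp only [tsum] at ih
    rw [insTerm]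
    cases h : termEq e y with
    | false => simp only [cond_false, tsum, List.map_cons, List.sum_cons, ih]; ring
    | true =>
      simp only [termEq, Bool.and_eq_true, Nat.beq_eq] at h
      obtain ⟨⟨⟨a, b⟩, c⟩, d⟩ := h
      have key : tval t x e + tval t x y =
          ((e.1 + y.1 : ℤ) : F) * t ^ y.2.1 * (x y.2.2.1 * x y.2.2.2.1 * x y.2.2.2.2) := by
        simp only [tval, a, b, c, d, Int.cast_add]; ring
      cases h0 : (e.1 + y.1 == 0) with
      | false =>
        simp only [cond_false, cond_true, tsum, List.map_cons, List.sum_cons, ← add_assoc, key]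
        rfl
      | true =>
        simp only [cond_true, tsum, List.map_cons, List.sum_cons, ← add_assoc, key, beq_iff_eq.1 h0]
        simp

theorem tsum_zero (t : F) (x : ℕ → F) {L : List Term}
    (h : ((L.map sort3).foldr insTerm []).isEmpty = true) : tsum t x L = 0 := by
  have e : ∀ L : List Term, tsum t x ((L.map sort3).foldr insTerm []) = tsum t x L := by
    intro L
    induction L with
    | nil => rfl
    | cons a L ih =>
      rw [List.map_cons, List.foldr_cons, tsum_ins, ih, tval_sort3]
      simp [tsum]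
  rw [← e L, List.isEmpty_iff.1 h]; rfl

/-- A root element on a function on positions. -/
def act (r : ℕ) (t : F) (x : ℕ → F) (a : ℕ) : F :=
  x a + t * (((moves r).filter fun m => Nat.beq m.2.1 a).map fun m => (m.2.2 : F) * x m.1).sum

theorem sm_mulVec (x : I27 → F) {a : ℕ} (ha : a < 27) : ∀ L : List Ent, EBd L →
    (sm F L *ᵥ x) (dec a) = ((L.filter fun m => Nat.beq m.2.1 a).map fun m => (m.2.2 : F) * x (dec m.1)).sum
  | [], _ => by simp [sm]
  | m :: L, h => by
    have ih := sm_mulVec x ha L fun y hy => h y (List.mem_cons_of_mem _ hy)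
    have hm := (h m List.mem_cons_self).2
    rw [sm, Matrix.add_mulVec, Pi.add_apply, ih]
    by_cases e : m.2.1 = a
    · rw [List.filter_cons, if_pos (by simpa using e)]
      simp [e, Matrix.single_mulVec]
    · rw [List.filter_cons, if_neg (by simpa using e)]
      simp [Matrix.single_mulVec, (dec_inj hm ha).not.2 e, Ne.symm ((dec_inj hm ha).not.2 e)]

theorem gen_mulVec {r : ℕ} (hr : r < 72) (t : F) (x : I27 → F) {a : ℕ} (ha : a < 27) :
    ((gen F r t : Matrix I27 I27 F) *ᵥ x) (dec a) = act r t (fun n => x (dec n)) a := by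
  show ((1 + t • nil F r) *ᵥ x) (dec a) = _
  rw [Matrix.add_mulVec, Matrix.one_mulVec, Matrix.smul_mulVec, Pi.add_apply, Pi.smul_apply, nil,
    sm_mulVec x ha _ (shape_spec (F := F) hr).1]
  rfl

theorem factor_sum (r : ℕ) (t : F) (x : ℕ → F) (a : ℕ) :
    ((factor r a).map fun f => (f.1 : F) * t ^ f.2.1 * x f.2.2).sum = act r t x a := by
  simp only [factor, act, List.map_cons, List.sum_cons, Int.cast_one, pow_zero, one_mul, List.map_map]
  congr 1
  rw [← List.sum_map_mul_left]
  exact congrArg List.sum (List.map_congr_left fun m _ => by simp; ring)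

theorem sum_flatMap' {α : Type*} (f : α → List Term) (t : F) (x : ℕ → F) (L : List α) :
    tsum t x (L.flatMap f) = (L.map fun a => tsum t x (f a)).sum := by
  induction L with
  | nil => rfl
  | cons a L ih =>
    simp only [tsum] at ih
    simp [tsum, ih]

theorem tsum_expand (r : ℕ) (t : F) (x : ℕ → F) : tsum t x (expand r) = Tz (act r t x) := by
  rw [expand, sum_flatMap', Tz]
  refine congrArg List.sum (List.map_congr_left fun m _ => ?_)
  let φ := fun f : ℤ × ℕ × ℕ => (f.1 : F) * t ^ f.2.1 * x f.2.2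
  have e1 : ∀ fa fb : ℤ × ℕ × ℕ,
      tsum t x ((factor r m.2.2.2).map fun fc =>
        (m.1 * fa.1 * fb.1 * fc.1, fa.2.1 + fb.2.1 + fc.2.1, fa.2.2, fb.2.2, fc.2.2)) =
      (m.1 : F) * φ fa * φ fb * act r t x m.2.2.2 := by
    intro fa fb
    rw [← factor_sum, tsum, List.map_map, ← List.sum_map_mul_left]
    refine congrArg List.sum (List.map_congr_left fun fc _ => ?_)
    simp [tval, φ, pow_add]; ring
  have e2 : ∀ fa : ℤ × ℕ × ℕ,
      tsum t x ((factor r m.2.2.1).flatMap fun fb => (factor r m.2.2.2).map fun fc =>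
        (m.1 * fa.1 * fb.1 * fc.1, fa.2.1 + fb.2.1 + fc.2.1, fa.2.2, fb.2.2, fc.2.2)) =
      (m.1 : F) * φ fa * act r t x m.2.2.1 * act r t x m.2.2.2 := by
    intro fa
    rw [sum_flatMap', ← factor_sum r t x m.2.2.1, ← List.sum_map_mul_left, ← List.sum_map_mul_right]
    exact congrArg List.sum (List.map_congr_left fun fb _ => e1 fa fb)
  rw [sum_flatMap', ← factor_sum r t x m.2.1, ← List.sum_map_mul_left, ← List.sum_map_mul_right,
    ← List.sum_map_mul_right]
  exact congrArg List.sum (List.map_congr_left fun fa _ => e2 fa)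

theorem gen_mem (r : ℕ) (t : F) : gen F r t ∈ E6univ F := by
  by_cases hr : r < 72
  swap
  · rw [gen_out hr]; exact one_mem _
  intro v
  show cubicT ((gen F r t : Matrix I27 I27 F) *ᵥ v) = cubicT v
  rw [cubicT_eq, cubicT_eq]
  have h := tsum_zero t (fun n => v (dec n)) (allBelow_eq_true.1 inv_ok r hr)
  rw [tsum, List.map_append, List.sum_append, ← tsum, tsum_expand] at h
  have hb : ((negBase.map (tval t fun n => v (dec n))).sum : F) = -Tz (fun n => v (dec n)) := by
    rw [Tz, negBase, List.map_map, ← neg_one_mul, ← List.sum_map_mul_left]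
    refine congrArg List.sum (List.map_congr_left fun m _ => ?_)
    simp [tval]; ring
  rw [hb, add_neg_eq_zero] at h
  rw [← h, Tz, Tz]
  refine congrArg List.sum (List.map_congr_left fun m hm => ?_)
  have hlt : m.2.1 < 27 ∧ m.2.2.1 < 27 ∧ m.2.2.2 < 27 := by
    revert m; decide
  show (m.1 : F) * ((gen F r t : Matrix I27 I27 F) *ᵥ v) (dec m.2.1) *
    ((gen F r t : Matrix I27 I27 F) *ᵥ v) (dec m.2.2.1) *
    ((gen F r t : Matrix I27 I27 F) *ᵥ v) (dec m.2.2.2) = _
  rw [gen_mulVec hr t v hlt.1, gen_mulVec hr t v hlt.2.1, gen_mulVec hr t v hlt.2.2]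

variable (F) in
/-- The representation of the presented group. -/
def rep : tb.D.SteinbergCover F →* E6univ F :=
  PresentedGroup.toGroup
    (f := fun p : Fin tb.D.nroots × F => (⟨gen F p.1 p.2, gen_mem _ _⟩ : E6univ F)) <| by
    have hg := E6Data.good
    have hn : tb.n = 72 := rfl
    set f := fun p : Fin tb.D.nroots × F => (⟨gen F p.1 p.2, gen_mem _ _⟩ : E6univ F) with hf
    have hX : ∀ (r : ℕ) (t : F), ((FreeGroup.lift f (tb.D.stX r t) : E6univ F) : GL I27 F) = gen F r t := by
      intro r t
      by_cases hr : r < tb.D.nroots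
      · simp [ChevalleyDatum.stX, hr, f]
      · simp [ChevalleyDatum.stX, hr, gen_out (F := F) (show ¬ r < 72 from hr)]
    rintro g (⟨r, a, b, hr, rfl⟩ | ⟨r, s, t, u, hr, hs, h1, h2, rfl⟩)
    · apply Subtype.ext
      simp only [map_mul, map_inv, Subgroup.coe_mul, Subgroup.coe_inv, hX, gen_add, mul_inv_cancel,
        OneMemClass.coe_one]
    · rw [hg.nroots_eq] at hr hs
      rw [hg.neg_eq hr] at h2
      apply Subtype.ext
      have hW : ((FreeGroup.lift f (tb.D.stWord (Tab.cVal tb F r s t u)) : E6univ F) : GL I27 F) =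
          ((Tab.cVal tb F r s t u).map fun e => gen F e.1 e.2).prod := by
        rw [ChevalleyDatum.stWord, map_list_prod, List.map_map, Subgroup.val_list_prod, List.map_map]
        exact congrArg List.prod (List.map_congr_left fun e _ => hX _ _)
      simp only [map_mul, map_inv, Subgroup.coe_mul, Subgroup.coe_inv, hX, Tab.commWord_eq hg hr hs, hW,
        OneMemClass.coe_one]
      rw [gen_comm (hn ▸ hr) (hn ▸ hs) h1 h2, mul_inv_cancel]

theorem rep_scGen (r : ℕ) (t : F) : (rep F (tb.D.scGen F r t) : GL I27 F) = gen F r t := by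
  by_cases hr : r < tb.D.nroots
  · simp [rep, ChevalleyDatum.scGen, ChevalleyDatum.stX, hr]
    exact congrArg Subtype.val (PresentedGroup.toGroup.of _)
  · simp [rep, ChevalleyDatum.scGen, ChevalleyDatum.stX, hr, gen_out (F := F) (show ¬ r < 72 from hr)]

end Cfsg.Agent.E6Cubic
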